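import Groth.Agent.Lib.BCCoh.FlatHomology
import Groth.Agent.Lib.BCCoh.BaseTransfer
import Groth.Agent.Lib.BCCoh.GlobalSec
import Groth.Agent.Lib.Cohom.Serre
import Groth.Prelude.Def_FlatMod2

/-!
# Acyclic quasi-affine schemes are affine
-/

universe u

open CategoryTheory CategoryTheory.Limits Opposite TopologicalSpace AlgebraicGeometry TensorProduct

set_option backward.isDefEq.respectTransparency false
set_option linter.style.haveILetI false

namespace GrothLib.QAffAcyclic9

variable {A : Type u} [CommRing A] {X : Scheme.{u}} [X.Over (Spec (CommRingCat.of A))]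

local notation "f₀" => (X ↘ Spec (CommRingCat.of A))

/-- `H^0(X, O)` is free of rank one when `A = Γ(X, O)`. -/
theorem nonempty_h0_linearEquiv (hb : Function.Bijective (Coh.toGlobal f₀)) :
    Nonempty (A ≃ₗ[A] Coh.HH X (Coh.structureModule X) 0) := by
  let F := Coh.structureModule X
  let h0 : Coh.HH X F 0 ≃+ (CohIII.globalSectionsA A).obj F := BCCoh.h0Equiv F
  let g : A ≃+ Γ(F, ⊤) := AddEquiv.ofBijective (Coh.toGlobal f₀).toAddMonoidHom hb
  let e : A ≃+ Coh.HH X F 0 := (g.trans (BCCoh.gsEquiv (A := A) F)).trans h0.symm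
  refine ⟨e.toLinearEquiv fun a b ↦ ?_⟩
  apply h0.injective
  have h1 : h0 (a • e b) = a • h0 (e b) := BCCoh.h0Equiv_smul F a (e b)
  rw [h1]
  show h0 (h0.symm (BCCoh.gsEquiv (A := A) F (g (a • b)))) =
    a • h0 (h0.symm (BCCoh.gsEquiv (A := A) F (g b)))
  rw [h0.apply_symm_apply, h0.apply_symm_apply]
  refine (congrArg (BCCoh.gsEquiv (A := A) F) ?_).trans (BCCoh.gsEquiv_smul (A := A) F a (g b))
  exact map_mul (Coh.toGlobal f₀) a b

variable [CompactSpace X] [X.IsSeparated]

/-- Affine basic opens covering a scheme with acyclic structure sheaf generate the unit ideal of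
the ring of global functions. -/
theorem span_eq_top (hb : Function.Bijective (Coh.toGlobal f₀))
    (hfl : FlatMod.IsFlatOver f₀ (Coh.structureModule X))
    (h : ∀ p : ℕ, 0 < p → Subsingleton (Coh.HH X (Coh.structureModule X) p))
    {κ : Type u} [Finite κ] (r : κ → A) (V : κ → X.Opens) (hV : ∀ k, IsAffineOpen (V k))
    (hu : ∀ k, IsUnit (BCCoh.psi f₀ (V k) (r k))) (hcov : iSup V = ⊤) :
    Ideal.span (Set.range r) = ⊤ := by
  classical
  let F := Coh.structureModule X
  haveI hF : F.IsQuasicoherent := Cohom.isQuasicoherent_structureModule X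
  have haff : ∀ (n : ℕ) (a : Fin (n + 1) → κ), IsAffineOpen (⨅ k, V (a k)) :=
    fun n a ↦ IsAffineOpen.iInf fun k ↦ hV _
  obtain ⟨d, hd⟩ := Cohom.exists_vanishFrom_of_isCompact (X := X) (V := ⊤)
    (by simpa using isCompact_univ)
  haveI := BCCoh.flat_cxZ f₀ F V hfl haff
  let C := BCCoh.cxZ f₀ V F
  have high : ∀ (M : ModuleCat.{u} A) (i : ℤ), (d : ℤ) ≤ i → IsZero (CohIII.T C i M) := by
    intro M i hi
    obtain ⟨p, rfl⟩ := Int.eq_ofNat_of_zero_le (le_trans (Int.natCast_nonneg d) hi)
    obtain ⟨e', -, -⟩ := BCCoh.exists_linearEquiv f₀ V hcov haff p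
    haveI := BCCoh.isQuasicoherent_TF f₀ F M
    haveI := (hd ((BCCoh.TF f₀ F).obj M)).subsingleton_HH (n := p) (by omega)
    haveI := (e' ((BCCoh.TF f₀ F).obj M) inferInstance).toEquiv.symm.subsingleton
    exact (ModuleCat.isZero_of_subsingleton _).of_iso (BCCoh.tensorHIso f₀ F V haff p M)
  have hC : ∀ p : ℕ, Nonempty (Coh.HH X F p ≃ₗ[A] C.homology (p : ℤ)) := fun p => by
    obtain ⟨e, he, -⟩ := BCCoh.exists_linearEquiv f₀ V hcov haff p
    exact ⟨((e F hF).toLinearEquiv (he F hF)).trans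
      ((BCCoh.cx f₀ V F).extendHomologyIso ComplexShape.embeddingUpNat
        (show ComplexShape.embeddingUpNat.f p = (p : ℤ) from rfl)).symm.toLinearEquiv⟩
  have hflat : ∀ i, Module.Flat A (C.homology i) := fun i ↦ by
    by_cases hi : 0 ≤ i
    · obtain ⟨p, rfl⟩ := Int.eq_ofNat_of_zero_le hi
      obtain ⟨e⟩ := hC p
      cases p with
      | zero =>
        obtain ⟨e0⟩ := nonempty_h0_linearEquiv hb
        exact Module.Flat.of_linearEquiv (e0.trans e).symm
      | succ q =>
        haveI := h (q + 1) (Nat.succ_pos q)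
        haveI : Subsingleton (C.homology ((q + 1 : ℕ) : ℤ)) := e.symm.toEquiv.subsingleton
        infer_instance
    · haveI : Subsingleton (C.homology i) := ModuleCat.subsingleton_of_isZero (by
        rw [← HomologicalComplex.exactAt_iff_isZero_homology]
        exact HomologicalComplex.ExactAt.of_isZero
          ((BCCoh.cx f₀ V F).isZero_extend_X _ i fun k hk ↦ by
            have : (k : ℤ) = i := hk
            omega))
      infer_instance
  let I : Ideal A := Ideal.span (Set.range r)
  let M : ModuleCat.{u} A := ModuleCat.of A (A ⧸ I)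
  let T := (BCCoh.TF f₀ F).obj M
  haveI hT : T.IsQuasicoherent := BCCoh.isQuasicoherent_TF f₀ F M
  have hzero : ∀ k, Subsingleton Γ(T, V k) := by
    intro k
    letI := BCCoh.secModule f₀ F (V k)
    suffices Subsingleton (Γ(F, V k) ⊗[A] M) from
      (BCCoh.bijective_secHom f₀ F M (hV k)).2.subsingleton
    refine subsingleton_of_forall_eq 0 fun z ↦ ?_
    induction z using TensorProduct.induction_on with
    | zero => rfl
    | tmul s m =>
      obtain ⟨w, hw⟩ := (hu k).exists_right_inv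
      have hs : s = r k • ((show Γ(X, V k) from w) • s) := by
        show s = BCCoh.psi f₀ (V k) (r k) • (w • s)
        rw [smul_smul, hw, one_smul]
      have hm : (r k) • m = 0 := by
        obtain ⟨a, rfl⟩ := Submodule.Quotient.mk_surjective _ m
        exact (Submodule.Quotient.mk_eq_zero _).2
          (I.mul_mem_right a (Ideal.subset_span ⟨k, rfl⟩))
      rw [hs, TensorProduct.smul_tmul, hm, TensorProduct.tmul_zero]
    | add z w hz hw => rw [hz, hw, add_zero]
  haveI hH0 : Subsingleton (Coh.HH X T 0) := by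
    have : Subsingleton Γ(T, ⊤) := subsingleton_of_forall_eq 0 fun s ↦
      TopCat.Sheaf.eq_of_locally_eq' ⟨T.presheaf, T.isSheaf⟩ V ⊤ (fun k ↦ homOfLE le_top)
        hcov.ge s 0 fun k ↦ @Subsingleton.elim _ (hzero k) _ _
    exact (show Coh.HH X T 0 ≃+ Γ(T, ⊤) from
      Sheaf.H.equiv₀ (Coh.toAb T) (T := (⊤ : X.Opens)) isTerminalTop).toEquiv.subsingleton
  obtain ⟨e, -, -⟩ := BCCoh.exists_linearEquiv f₀ V hcov haff 0
  haveI : Subsingleton ((BCCoh.cx f₀ V T).homology 0) := (e T hT).toEquiv.symm.subsingleton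
  haveI : Subsingleton (CohIII.T C ((0 : ℕ) : ℤ) M) :=
    (BCCoh.tensorHIso f₀ F V haff 0 M).toLinearEquiv.toEquiv.subsingleton
  obtain ⟨tq⟩ := BCCoh.nonempty_T_equiv_tensor C d high hflat ((0 : ℕ) : ℤ) M
  haveI : Subsingleton (C.homology ((0 : ℕ) : ℤ) ⊗[A] M) := tq.toEquiv.symm.subsingleton
  obtain ⟨e0⟩ := hC 0
  obtain ⟨e1⟩ := nonempty_h0_linearEquiv hb
  haveI : Subsingleton (A ⊗[A] M) :=
    (TensorProduct.congr (e1.trans e0) (LinearEquiv.refl A M)).toEquiv.subsingleton
  haveI : Subsingleton (A ⧸ I) := (TensorProduct.lid A M).toEquiv.symm.subsingleton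
  exact Ideal.Quotient.subsingleton_iff.1 inferInstance

end GrothLib.QAffAcyclic9
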